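import Groth.Agent.Lib.EtStalk.Finite
import Groth.Agent.Lib.SmoothSection.Scheme
import Groth.Agent.Lib.TorsorSch25.Transfer
import Groth.Agent.Lib.SplitCover25.Main
import Mathlib.AlgebraicGeometry.Morphisms.LocalFlatDescent

/-!
# Smooth schemes over a finite scheme acquire sections étale locally on the base
-/

set_option autoImplicit false
set_option backward.isDefEq.respectTransparency.types false
universe u

open CategoryTheory CategoryTheory.Limits AlgebraicGeometry

namespace Groth.Agent.TrivFinite25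

variable {S S' : Scheme.{u}} (π : S' ⟶ S) [IsFinite π] {E : Scheme.{u}} (p : E ⟶ S')

/-- A smooth surjection has a section over an étale covering. -/
theorem exists_etale_cover [Smooth p] [Surjective p] :
    ∃ (V : Scheme.{u}) (e : V ⟶ S') (σ : V ⟶ E), Etale e ∧ Surjective e ∧ σ ≫ p = e := by
  choose y hy using fun x : S' => p.surjective x
  choose W g w hg hw h hh using fun x : S' => SmoothSection.exists_etale_section p (y x)
  refine ⟨∐ W, Sigma.desc g, Sigma.desc h, IsZariskiLocalAtSource.sigmaDesc hg, ⟨fun x => ⟨Sigma.ι W x (w x), ?_⟩⟩, ?_⟩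
  · rw [← Scheme.Hom.comp_apply, Sigma.ι_desc, hw, hy]
  · apply Sigma.hom_ext
    intro x
    rw [Sigma.ι_desc_assoc, hh, Sigma.ι_desc]

/-- Étale locally on `S`, an étale covering of `S'` has a section. -/
theorem exists_nbhd {V : Scheme.{u}} (e : V ⟶ S') [Etale e] [Surjective e] (s : S) :
    ∃ (U : Scheme.{u}) (g : U ⟶ S) (u : U) (σ : pullback g π ⟶ V),
      Etale g ∧ g u = s ∧ σ ≫ e = pullback.snd g π := by
  classical
  obtain ⟨Ω, _, _, η, rfl⟩ := SplitCover25.exists_geomPoint s
  haveI : LocallyQuasiFinite e := FiniteSplit.locallyQuasiFinite_of_etale e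
  have hlift : ∀ l : EtStalk.fLifts π η, ∃ c : Spec (CommRingCat.of Ω) ⟶ V, c ≫ e = l.1 := fun l => by
    obtain ⟨z, hz⟩ := e.surjective (Weight.pt l.1)
    obtain ⟨c, hc, -⟩ := Weight.exists_lift_of_eq e z (e.quasiFiniteAt z) l.1 hz
    exact ⟨c, hc⟩
  choose c hc using hlift
  let W : S.Etale := Scheme.Etale.mk (𝟙 S)
  let w : EtStalk.fib η W := Over.homMk η (Category.comp_id η)
  let V' : S'.Etale := Scheme.Etale.mk e
  let m : V' ⟶ (EtCoh.bc π).obj W := MorphismProperty.Over.homMk
    (pullback.lift (e ≫ π) e (Category.comp_id _)) (pullback.lift_snd _ _ _) trivial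
  let c' : ∀ l : EtStalk.fLifts π η, EtStalk.fib l.1 V' := fun l => Over.homMk (c l) (hc l)
  obtain ⟨U, g, u, P, σ, -, hP, hσm, -⟩ := EtStalk.exists_refinement π η w (fun _ => V') (fun _ => m) c'
    (fun l => Over.OverMorphism.ext (pullback.hom_ext
      (by
        show (c l ≫ pullback.lift (e ≫ π) e _) ≫ pullback.fst (𝟙 S) π = _
        rw [Category.assoc, pullback.lift_fst, ← Category.assoc, hc]
        exact l.2.trans (pullback.lift_fst _ _ _).symm)
      (by
        show (c l ≫ pullback.lift (e ≫ π) e _) ≫ pullback.snd (𝟙 S) π = _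
        rw [Category.assoc, pullback.lift_snd, hc]
        exact (pullback.lift_snd _ _ _).symm)))
  haveI : Etale U.hom := U.prop
  haveI : Finite (EtStalk.fLifts π η) := FiniteSplit.finite_liftsOfFinite π η
  obtain ⟨hcl⟩ := nonempty_isColimit_cofanMk_of (σ := EtStalk.fLifts π η)
    (fun l => (P l).ι) (by
      rw [eq_top_iff]
      intro z _
      obtain ⟨l, hl, -⟩ := hP z
      exact TopologicalSpace.Opens.mem_iSup.2 ⟨l, by rw [Scheme.Opens.opensRange_ι]; exact hl⟩)
    (fun i j hij => by
      rw [Function.onFun, disjoint_iff_inf_le]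
      rintro z ⟨hi, hj⟩
      rw [Scheme.Opens.opensRange_ι] at hi hj
      obtain ⟨l, -, hl⟩ := hP z
      exact (hij ((hl i hi).trans (hl j hj).symm)).elim)
  refine ⟨U.left, U.hom, u.left (IsLocalRing.closedPoint Ω), hcl.desc (Cofan.mk V fun l => (σ l).left),
    inferInstance, ?_, ?_⟩
  · exact (Scheme.Hom.comp_apply u.left U.hom _).symm.trans
      (congrArg (fun q : Spec (CommRingCat.of Ω) ⟶ S => q (IsLocalRing.closedPoint Ω)) (Over.w u))
  · refine hcl.hom_ext fun l => ?_
    refine (Category.assoc _ _ _).symm.trans ?_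
    refine (congrArg (· ≫ e) (hcl.fac (Cofan.mk V fun l => (σ l).left) l)).trans ?_
    exact MorphismProperty.Over.w (σ l.as)

/-- Étale locally on `S`, a smooth surjection onto `S'` has a section. -/
theorem exists_cover [Smooth p] [Surjective p] :
    ∃ (U : S → Scheme.{u}) (g : ∀ s, U s ⟶ S), (∀ s, Etale (g s)) ∧ (∀ s, ∃ u, g s u = s) ∧
      ∀ s, ∃ σ : pullback (g s) π ⟶ E, σ ≫ p = pullback.snd (g s) π := by
  obtain ⟨V, e, τ, he, hes, hτ⟩ := exists_etale_cover p
  choose U g u σ hg hu hσ using exists_nbhd π e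
  exact ⟨U, g, hg, fun s => ⟨u s, hu s⟩, fun s => ⟨σ s ≫ τ, by rw [Category.assoc, hτ, hσ]⟩⟩

end Groth.Agent.TrivFinite25
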